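import Mathlib.RingTheory.Kaehler.Basic
import Mathlib.RingTheory.TensorProduct.Basic

/-!
Restrictions of symmetric tensors to diagonals and Kähler differentials.
-/

universe u v

open TensorProduct

namespace Groth.Agent.SymDiag

variable {k : Type u} [CommRing k] {A : Type v} [CommRing A] [Algebra k A]

variable (k A) in
/-- `a ⊗ b ↦ a • db`. -/
noncomputable def π : A ⊗[k] A →ₗ[k] Ω[A⁄k] :=
  TensorProduct.lift (LinearMap.mk₂ k (fun a b => a • KaehlerDifferential.D k A b)
    (fun a a' b => add_smul a a' _) (fun c a b => smul_assoc c a _)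
    (fun a b b' => by simp [smul_add]) (fun c a b => by rw [Derivation.map_smul, smul_comm]))

@[simp] lemma π_tmul (a b : A) : π k A (a ⊗ₜ[k] b) = a • KaehlerDifferential.D k A b := rfl

variable (k A) in
/-- Relations of Leibniz type. -/
noncomputable def rel : Submodule A (A ⊗[k] A) :=
  Submodule.span A (Set.range fun bc : A × A => (1 : A) ⊗ₜ[k] (bc.1 * bc.2) - bc.1 ⊗ₜ[k] bc.2 - bc.2 ⊗ₜ[k] bc.1)

lemma smul_tmul'' (a b c : A) : a • (b ⊗ₜ[k] c) = (a * b) ⊗ₜ[k] c := rfl

/-- The universal property: the kernel of `π` consists of the Leibniz relations. -/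
theorem mem_rel_of_π_eq_zero {y : A ⊗[k] A} (hy : π k A y = 0) : y ∈ rel k A := by
  let M := (A ⊗[k] A) ⧸ rel k A
  let lin : A →ₗ[k] M := ((rel k A).mkQ.restrictScalars k).comp (TensorProduct.mk k A A 1)
  have hleib : ∀ b c, lin (b * c) = b • lin c + c • lin b := fun b c => by
    change Submodule.Quotient.mk _ = b • Submodule.Quotient.mk _ + c • Submodule.Quotient.mk _
    rw [← Submodule.Quotient.mk_smul, ← Submodule.Quotient.mk_smul, ← Submodule.Quotient.mk_add,
      Submodule.Quotient.eq]
    simp only [TensorProduct.mk_apply, smul_tmul'', mul_one, ← sub_sub]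
    exact Submodule.subset_span ⟨(b, c), rfl⟩
  let der : Derivation k A M := Derivation.mk' lin hleib
  have h : ∀ z : A ⊗[k] A, der.liftKaehlerDifferential (π k A z) = Submodule.Quotient.mk z := by
    intro z
    induction z using TensorProduct.induction_on with
    | zero => simp
    | tmul a b =>
      rw [π_tmul, map_smul, Derivation.liftKaehlerDifferential_comp_D]
      change a • Submodule.Quotient.mk ((1 : A) ⊗ₜ[k] b) = _
      rw [← Submodule.Quotient.mk_smul, smul_tmul'', mul_one]
    | add x y hx hy => rw [map_add, map_add, hx, hy, Submodule.Quotient.mk_add]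
  have := h y
  rw [hy, map_zero] at this
  exact (Submodule.Quotient.mk_eq_zero _).1 this.symm

/-- A linear map killing the Leibniz relations kills the kernel of `π`. -/
theorem eq_zero_of_π_eq_zero {N : Type*} [AddCommGroup N] [Module k N] (L : A ⊗[k] A →ₗ[k] N)
    (hL : ∀ a b c : A, L (a ⊗ₜ[k] (b * c)) = L ((a * b) ⊗ₜ[k] c) + L ((a * c) ⊗ₜ[k] b))
    {y : A ⊗[k] A} (hy : π k A y = 0) : L y = 0 := by
  suffices h : ∀ z ∈ rel k A, ∀ a : A, L (a • z) = 0 by
    simpa using h y (mem_rel_of_π_eq_zero hy) 1
  intro z hz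
  induction hz using Submodule.span_induction with
  | mem z hz =>
    obtain ⟨⟨b, c⟩, rfl⟩ := hz
    intro a
    simp only [smul_sub, smul_tmul'', mul_one, map_sub, hL]
    abel
  | zero => simp
  | add x y _ _ hx hy => intro a; rw [smul_add, map_add, hx, hy, add_zero]
  | smul c x _ hx => intro a; rw [smul_smul]; exact hx _

lemma π_surjective : Function.Surjective (π k A) := by
  intro ω
  have h : ω ∈ Submodule.span A (Set.range (KaehlerDifferential.D k A)) := by
    rw [KaehlerDifferential.span_range_derivation]; trivial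
  have key : ∀ a : A, a • ω ∈ LinearMap.range (π k A) := by
    induction h using Submodule.span_induction with
    | mem z hz => obtain ⟨b, rfl⟩ := hz; exact fun a => ⟨a ⊗ₜ b, rfl⟩
    | zero => simp
    | add x y _ _ hx hy => intro a; rw [smul_add]; exact add_mem (hx a) (hy a)
    | smul c x _ hx => intro a; rw [smul_smul]; exact hx _
  simpa using key 1

end Groth.Agent.SymDiag
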